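import Groth.Agent.QuotSect.Points
import Groth.Agent.FpqcDescent.IdealGlue
import Groth.Agent.FpqcDescent.Affine
import Groth.Agent.S9839

/-!
# Sections of fpqc quotient sheaves as stable subschemes

Closed or open subschemes of `U ×_S T` cut out by a section of `U/R` over `T`.
-/

set_option backward.isDefEq.respectTransparency false
set_option backward.isDefEq.respectTransparency.types false
set_option autoImplicit false

universe u

open CategoryTheory CategoryTheory.Limits AlgebraicGeometry Opposite MonoidalCategory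
  CartesianMonoidalCategory SemiCartesianMonoidalCategory

namespace Groth.Agent.QuotSect

local notation "K" => Scheme.fpqcPrecoverage

variable {S : Scheme.{u}} {R U T : Over S} {s t : R ⟶ U}

lemma factors_left {W Z X : Over S} (i : Z ⟶ X) (a : W ⟶ X) :
    (∃ z : W ⟶ Z, z ≫ i = a) ↔ ∃ z : W.left ⟶ Z.left, z ≫ i.left = a.left := by
  refine ⟨fun ⟨z, hz⟩ => ⟨z.left, by rw [← hz]; rfl⟩, fun ⟨z, hz⟩ => ?_⟩
  refine ⟨Over.homMk z ?_, Over.OverMorphism.ext hz⟩
  rw [← Over.w i, reassoc_of% hz, Over.w a]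

/-- Base change of a morphism along `snd`. -/
lemma isPullback_whiskerLeft (U : Over S) {W T : Over S} (c : W ⟶ T) :
    IsPullback (U ◁ c) (snd U W) (snd U T) c :=
  IsPullback.of_isLimit' ⟨whiskerLeft_snd _ _⟩ (PullbackCone.IsLimit.mk _
    (fun p => lift (p.fst ≫ fst U T) p.snd)
    (fun p => by ext1 <;> simp [p.condition])
    (fun p => by simp)
    (fun p m h1 h2 => by
      apply CartesianMonoidalCategory.hom_ext
      · rw [lift_fst, ← h1, Category.assoc, whiskerLeft_fst]
      · rw [lift_snd, h2]))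

section pieces

variable [IsEquivalenceRelation s t] (σ : QuotSh.rep K T ⟶ QuotSh.quot K s t)

/-- The locus over `σ` in `U ×_S W`, for a lift `v` of `σ` to `W`, is a base change of the graph. -/
theorem piece_iff {W : Over S} (c : W ⟶ T) (v : W ⟶ U)
    (hv : QuotSh.repMap K v ≫ QuotSh.quotπ K s t = QuotSh.repMap K c ≫ σ)
    {W' : Over S} (b : W' ⟶ U ⊗ W) :
    (∃ z, z ≫ pullback.snd (lift t s) (U ◁ v) = b) ↔ Mem σ (b ≫ U ◁ c) := by
  unfold Mem
  simp only [Category.assoc, whiskerLeft_fst, whiskerLeft_snd]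
  have key : QuotSh.repMap K (b ≫ snd U W ≫ c) ≫ σ =
      QuotSh.repMap K (b ≫ snd U W ≫ v) ≫ QuotSh.quotπ K s t := by
    simp only [repMap_comp, Category.assoc, hv]
  rw [key]
  constructor
  · rintro ⟨z, rfl⟩
    have h := congrArg (fun x => z ≫ x) (pullback.condition (f := lift t s) (g := U ◁ v))
    have h1 := h =≫ fst U U
    have h2 := h =≫ snd U U
    simp only [Category.assoc, lift_fst, lift_snd, whiskerLeft_fst, whiskerLeft_snd] at h1 h2
    simp only [Category.assoc]
    rw [← h1, ← h2]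
    simp only [repMap_comp, Category.assoc]
    rw [← QuotSh.quot_condition K s t]
  · intro h
    obtain ⟨r, hr1, hr2⟩ := rel_of_quotπ_eq _ _ h.symm
    refine ⟨pullback.lift r b ?_, pullback.lift_snd _ _ _⟩
    apply CartesianMonoidalCategory.hom_ext
    · simp only [Category.assoc, lift_fst, whiskerLeft_fst, hr2]
    · simp only [Category.assoc, lift_snd, whiskerLeft_snd, hr1]

/-- Points of two pieces with the same image lie in the pieces simultaneously. -/
theorem overlap_iff {W₁ W₂ : Over S} (c₁ : W₁ ⟶ T) (c₂ : W₂ ⟶ T) (v₁ : W₁ ⟶ U) (v₂ : W₂ ⟶ U)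
    (h₁ : QuotSh.repMap K v₁ ≫ QuotSh.quotπ K s t = QuotSh.repMap K c₁ ≫ σ)
    (h₂ : QuotSh.repMap K v₂ ≫ QuotSh.quotπ K s t = QuotSh.repMap K c₂ ≫ σ)
    {A : Scheme.{u}} (a₁ : A ⟶ (U ⊗ W₁).left) (a₂ : A ⟶ (U ⊗ W₂).left)
    (h : a₁ ≫ (U ◁ c₁).left = a₂ ≫ (U ◁ c₂).left) :
    (∃ z, z ≫ (pullback.snd (lift t s) (U ◁ v₁)).left = a₁) ↔
      ∃ z, z ≫ (pullback.snd (lift t s) (U ◁ v₂)).left = a₂ := by
  let b₁ : Over.mk (a₁ ≫ (U ⊗ W₁).hom) ⟶ U ⊗ W₁ := Over.homMk a₁ rfl
  let b₂ : Over.mk (a₁ ≫ (U ⊗ W₁).hom) ⟶ U ⊗ W₂ := Over.homMk a₂ (by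
    change a₂ ≫ (U ⊗ W₂).hom = a₁ ≫ (U ⊗ W₁).hom
    rw [← Over.w (U ◁ c₂), ← Over.w (U ◁ c₁), reassoc_of% h])
  have e : b₁ ≫ U ◁ c₁ = b₂ ≫ U ◁ c₂ := Over.OverMorphism.ext h
  have e₁ := (factors_left (pullback.snd (lift t s) (U ◁ v₁)) b₁).symm.trans
    (piece_iff σ c₁ v₁ h₁ b₁)
  have e₂ := (factors_left (pullback.snd (lift t s) (U ◁ v₂)) b₂).symm.trans
    (piece_iff σ c₂ v₂ h₂ b₂)
  exact e₁.trans (Iff.trans (by rw [e]) e₂.symm)

end pieces

lemma factors_closed {Z X A : Scheme.{u}} (m : Z ⟶ X) [IsClosedImmersion m] (a : A ⟶ X) :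
    (∃ z, z ≫ m = a) ↔ m.ker ≤ a.ker :=
  ⟨fun ⟨z, hz⟩ => hz ▸ Scheme.Hom.le_ker_comp z m,
    fun h => ⟨IsClosedImmersion.lift m a h, IsClosedImmersion.lift_fac _ _ _⟩⟩

lemma comap_le_ker_iff {X Y A : Scheme.{u}} (I : Y.IdealSheafData) (f : X ⟶ Y) (a : A ⟶ X) :
    I.comap f ≤ a.ker ↔ I ≤ (a ≫ f).ker := by
  rw [← Scheme.IdealSheafData.le_map_iff_comap_le, Scheme.IdealSheafData.map_ker]

lemma factors_open {Z X A : Scheme.{u}} (m : Z ⟶ X) [IsOpenImmersion m] (a : A ⟶ X) :
    (∃ z, z ≫ m = a) ↔ ∀ w, a w ∈ m.opensRange := by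
  constructor
  · rintro ⟨z, rfl⟩ w
    exact ⟨z w, rfl⟩
  · intro h
    exact ⟨IsOpenImmersion.lift m a (by rintro _ ⟨w, rfl⟩; exact h w), IsOpenImmersion.lift_fac _ _ _⟩

/-- The member of a covering family of `T` as an object over `S`. -/
abbrev member {X : Scheme.{u}} (g : X ⟶ T.left) : Over.mk (g ≫ T.hom) ⟶ T := Over.homMk g rfl

lemma whiskerLeft_cover (U : Over S) {ι : Type u} {X : ι → Scheme.{u}} {g : ∀ k, X k ⟶ T.left}
    (hg : Presieve.ofArrows X g ∈ Scheme.fpqcPrecoverage T.left) :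
    Presieve.ofArrows (fun k => (U ⊗ Over.mk (g k ≫ T.hom)).left)
      (fun k => (U ◁ member (g k)).left) ∈ Scheme.fpqcPrecoverage (U ⊗ T).left :=
  Precoverage.mem_coverings_of_isPullback g hg (snd U T).left
    (fun k => (U ◁ member (g k)).left) (fun k => (snd U (Over.mk (g k ≫ T.hom))).left)
    fun k => (isPullback_whiskerLeft U (member (g k))).map (Over.forget S)

variable [IsEquivalenceRelation s t]

theorem exists_closed_points (hc : IsClosedImmersion (lift t s).left)
    (σ : QuotSh.rep K T ⟶ QuotSh.quot K s t) :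
    ∃ (Z : Over S) (i : Z ⟶ U ⊗ T), IsClosedImmersion i.left ∧
      ∀ ⦃W : Over S⦄ (a : W ⟶ U ⊗ T), (∃ z : W ⟶ Z, z ≫ i = a) ↔ Mem σ a := by
  obtain ⟨ι, X, g, hg, hv⟩ := exists_cover_lifts σ
  choose v hv using hv
  let W : ι → Over S := fun k => Over.mk (g k ≫ T.hom)
  let m := fun k => pullback.snd (lift t s) (U ◁ v k)
  have hm : ∀ k, IsClosedImmersion (m k).left := fun k =>
    MorphismProperty.of_isPullback
      ((IsPullback.of_hasPullback (lift t s) (U ◁ v k)).map (Over.forget S)) hc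
  let q := fun k => (U ◁ member (g k)).left
  let I := fun k => (m k).left.ker
  have hI : ∀ k l, (I k).comap (pullback.fst (q k) (q l)) = (I l).comap (pullback.snd (q k) (q l)) := by
    intro k l
    have key : ∀ {A : Scheme.{u}} (a : A ⟶ pullback (q k) (q l)),
        (I k).comap (pullback.fst (q k) (q l)) ≤ a.ker ↔
          (I l).comap (pullback.snd (q k) (q l)) ≤ a.ker := fun a => by
      rw [comap_le_ker_iff, comap_le_ker_iff, ← factors_closed, ← factors_closed]
      exact overlap_iff σ _ _ _ _ (hv k) (hv l) _ _ (by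
        simp only [Category.assoc, q, pullback.condition])
    refine le_antisymm ?_ ?_
    · have h := (key ((I l).comap (pullback.snd (q k) (q l))).subschemeι).2
      rw [Scheme.IdealSheafData.ker_subschemeι] at h
      exact h le_rfl
    · have h := (key ((I k).comap (pullback.fst (q k) (q l))).subschemeι).1
      rw [Scheme.IdealSheafData.ker_subschemeι] at h
      exact h le_rfl
  obtain ⟨J, hJ, -⟩ := FpqcDescent.existsUnique_descent (whiskerLeft_cover U hg) I hI
  let i : Over.mk (J.subschemeι ≫ (U ⊗ T).hom) ⟶ U ⊗ T := Over.homMk J.subschemeι rfl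
  have hi : IsClosedImmersion i.left := inferInstanceAs (IsClosedImmersion J.subschemeι)
  have : Mono i := (Over.forget S).mono_of_mono_map (inferInstanceAs (Mono i.left))
  refine ⟨_, i, hi, fun W' a => factors_iff_of_members i hg (fun k W'' a b hb => ?_) a⟩
  let b' : W'' ⟶ U ⊗ W k := lift (a ≫ fst U T) b
  have hb' : b' ≫ U ◁ member (g k) = a := by
    apply CartesianMonoidalCategory.hom_ext
    · simp only [b', Category.assoc, whiskerLeft_fst, lift_fst]
    · simp only [b', Category.assoc, whiskerLeft_snd, lift_snd_assoc]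
      exact hb
  rw [factors_left, ← hb']
  refine Iff.trans ?_ ((factors_left _ b').symm.trans (piece_iff σ _ _ (hv k) b'))
  change (∃ z, z ≫ J.subschemeι = b'.left ≫ q k) ↔ ∃ z, z ≫ (m k).left = b'.left
  rw [factors_closed, factors_closed, Scheme.IdealSheafData.ker_subschemeι, ← comap_le_ker_iff,
    hJ k]

theorem exists_open_points (hc : IsOpenImmersion (lift t s).left)
    (σ : QuotSh.rep K T ⟶ QuotSh.quot K s t) :
    ∃ (Z : Over S) (i : Z ⟶ U ⊗ T), IsOpenImmersion i.left ∧
      ∀ ⦃W : Over S⦄ (a : W ⟶ U ⊗ T), (∃ z : W ⟶ Z, z ≫ i = a) ↔ Mem σ a := by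
  obtain ⟨ι, X, g, hg, hv⟩ := exists_cover_lifts σ
  choose v hv using hv
  let W : ι → Over S := fun k => Over.mk (g k ≫ T.hom)
  let m := fun k => pullback.snd (lift t s) (U ◁ v k)
  have hm : ∀ k, IsOpenImmersion (m k).left := fun k =>
    MorphismProperty.of_isPullback
      ((IsPullback.of_hasPullback (lift t s) (U ◁ v k)).map (Over.forget S)) hc
  let q := fun k => (U ◁ member (g k)).left
  let O := fun k => (m k).left.opensRange
  have hO : ∀ k l, pullback.fst (q k) (q l) ⁻¹ᵁ O k = pullback.snd (q k) (q l) ⁻¹ᵁ O l := by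
    intro k l
    ext x
    have h := overlap_iff σ _ _ _ _ (hv k) (hv l)
      ((pullback (q k) (q l)).fromSpecResidueField x ≫ pullback.fst (q k) (q l))
      ((pullback (q k) (q l)).fromSpecResidueField x ≫ pullback.snd (q k) (q l))
      (by simp only [Category.assoc, q, pullback.condition])
    rw [factors_open, factors_open] at h
    simp only [Scheme.Hom.comp_apply, Scheme.fromSpecResidueField_apply, forall_const] at h
    exact h
  obtain ⟨V, hV, -⟩ := S9839.result _ (whiskerLeft_cover U hg) O hO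
  let i : Over.mk (V.ι ≫ (U ⊗ T).hom) ⟶ U ⊗ T := Over.homMk V.ι rfl
  have hi : IsOpenImmersion i.left := inferInstanceAs (IsOpenImmersion V.ι)
  have : Mono i := (Over.forget S).mono_of_mono_map (inferInstanceAs (Mono i.left))
  refine ⟨_, i, hi, fun W' a => factors_iff_of_members i hg (fun k W'' a b hb => ?_) a⟩
  let b' : W'' ⟶ U ⊗ W k := lift (a ≫ fst U T) b
  have hb' : b' ≫ U ◁ member (g k) = a := by
    apply CartesianMonoidalCategory.hom_ext
    · simp only [b', Category.assoc, whiskerLeft_fst, lift_fst]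
    · simp only [b', Category.assoc, whiskerLeft_snd, lift_snd_assoc]
      exact hb
  rw [factors_left, ← hb']
  refine Iff.trans ?_ ((factors_left _ b').symm.trans (piece_iff σ _ _ (hv k) b'))
  change (∃ z, z ≫ V.ι = b'.left ≫ q k) ↔ ∃ z, z ≫ (m k).left = b'.left
  rw [factors_open, factors_open]
  refine forall_congr' fun w => ?_
  have hk : q k ⁻¹ᵁ V = O k := hV k
  rw [Scheme.Opens.opensRange_ι, Scheme.Hom.comp_apply]
  exact SetLike.ext_iff.1 hk (b'.left w)

end Groth.Agent.QuotSect
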