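import Groth.Agent.QuotShLib.Basic
import Mathlib.CategoryTheory.Sites.SubcanonicalOver
import Mathlib.CategoryTheory.Monoidal.Cartesian.Over
import Mathlib.CategoryTheory.Limits.Constructions.Over.Basic

/-!
# Sections of fpqc quotient sheaves

The points of `U ×_S T` lying over a section `σ` of `U/R`.
-/

set_option backward.isDefEq.respectTransparency false
set_option backward.isDefEq.respectTransparency.types false
set_option autoImplicit false

universe u

open CategoryTheory CategoryTheory.Limits AlgebraicGeometry Opposite MonoidalCategory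
  CartesianMonoidalCategory SemiCartesianMonoidalCategory

namespace Groth.Agent.QuotSect

open QuotShLib

local notation "K" => Scheme.fpqcPrecoverage

variable {S : Scheme.{u}} {R U T : Over S} {s t : R ⟶ U}

instance subcanonical : (QuotSh.J K S).Subcanonical :=
  GrothendieckTopology.subcanonical_over (J := Scheme.fpqcTopology) S

lemma repMap_comp {A B C : Over S} (g : A ⟶ B) (h : B ⟶ C) :
    QuotSh.repMap K (g ≫ h) = QuotSh.repMap K g ≫ QuotSh.repMap K h := by
  rw [← Functor.map_comp, ← Functor.whiskerRight_comp, ← yoneda.map_comp]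

lemma repMap_surjective (W V : Over S) :
    Function.Surjective (fun g : W ⟶ V ↦ QuotSh.repMap K g) := by
  let PV := yoneda.obj V ⋙ uliftFunctor.{u + 1, u}
  have : IsIso (toSheafify (QuotSh.J K S) PV) :=
    isIso_toSheafify _ ((QuotSh.J K S).uliftYoneda.{u + 1}.obj V).property
  have hb : Function.Bijective ((toSheafify (QuotSh.J K S) PV).app (op W)) :=
    (isIso_iff_bijective _).mp inferInstance
  intro φ
  obtain ⟨⟨g⟩, hg⟩ := hb.surjective (secEquiv K W _ φ)
  refine ⟨g, (secEquiv K W _).injective (Eq.trans ?_ hg)⟩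
  change secEquiv K W _ (QuotSh.repMap K g) = _
  rw [← Category.comp_id (QuotSh.repMap K g), secEquiv_comp, secEquiv_apply,
    Adjunction.homEquiv_id]
  refine (NatTrans.naturality_apply (toSheafify (QuotSh.J K S) PV) g.op
    (⟨𝟙 V⟩ : ULift.{u + 1} (V ⟶ V))).symm.trans ?_
  change (toSheafify (QuotSh.J K S) PV).app (op W) ⟨g ≫ 𝟙 V⟩ = _
  rw [Category.comp_id]

lemma secEquiv_comp_right {W : Over S} {A B : QuotSh.Sh K S} (φ : QuotSh.rep K W ⟶ A) (ψ : A ⟶ B) :
    secEquiv K W B (φ ≫ ψ) = ψ.hom.app (op W) (secEquiv K W A φ) := by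
  rw [secEquiv_apply, secEquiv_apply, Adjunction.homEquiv_naturality_right]
  rfl

/-- Points with the same image in the quotient sheaf are related. -/
theorem rel_of_quotπ_eq [IsEquivalenceRelation s t] {W : Over S} (a b : W ⟶ U)
    (hab : QuotSh.repMap K a ≫ QuotSh.quotπ K s t = QuotSh.repMap K b ≫ QuotSh.quotπ K s t) :
    ∃ r, r ≫ s = a ∧ r ≫ t = b := by
  let J := QuotSh.J K S
  let F : QuotSh.Sh K S := (presheafToSheaf J (Type (u + 1))).obj (preQuot s t)
  let η := preProj s t ≫ toSheafify J (preQuot s t)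
  let γ : QuotSh.rep K U ⟶ F := ((sheafificationAdjunction J (Type (u + 1))).homEquiv _ F).symm η
  have hγ : ∀ {T : Over S} (a : T ⟶ U),
      F.obj.map a.op (secEquiv K U F γ) = (toSheafify J (preQuot s t)).app (op T) ⟨Quot.mk _ a⟩ := by
    intro T a
    rw [secEquiv_apply, show ((sheafificationAdjunction (QuotSh.J K S) (Type (u + 1))).homEquiv
      (yoneda.obj U ⋙ uliftFunctor.{u + 1, u}) F) γ = η from Equiv.apply_symm_apply _ η]
    have h := NatTrans.naturality_apply η a.op (⟨𝟙 U⟩ : ULift.{u + 1} (U ⟶ U))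
    refine h.symm.trans ?_
    change η.app (op T) ⟨a ≫ 𝟙 U⟩ = _
    rw [Category.comp_id]
    rfl
  have hγw : QuotSh.repMap K s ≫ γ = QuotSh.repMap K t ≫ γ := by
    apply (secEquiv K R F).injective
    rw [secEquiv_comp, secEquiv_comp, hγ, hγ]
    exact congrArg _ (congrArg ULift.up (Quot.sound ⟨𝟙 R, Category.id_comp _, Category.id_comp _⟩))
  have hd : QuotSh.quotπ K s t ≫ coequalizer.desc γ hγw = γ := coequalizer.π_desc _ _
  obtain ⟨⟨e⟩⟩ := ‹IsEquivalenceRelation s t›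
  have huniq : ∀ {T : Over S} (r r' : T ⟶ R), r ≫ s = r' ≫ s → r ≫ t = r' ≫ t → r = r' :=
    fun r r' h₁ h₂ => e.right_cancellation r r' h₁ h₂
  have hsheaf : ∀ (V : Over S), Presieve.IsSheaf J (yoneda.obj V) := fun V =>
    GrothendieckTopology.Subcanonical.isSheaf_of_isRepresentable _
  have heq : (toSheafify J (preQuot s t)).app (op W) ⟨Quot.mk _ a⟩ =
      (toSheafify J (preQuot s t)).app (op W) ⟨Quot.mk _ b⟩ := by
    rw [← hγ, ← hγ, ← secEquiv_comp, ← secEquiv_comp, ← hd, reassoc_of% hab]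
  have hS := Presheaf.equalizerSieve_mem J (toSheafify J (preQuot s t)) _ _ heq
  let Sv := Presheaf.equalizerSieve (F := preQuot s t) (X := op W) ⟨Quot.mk _ a⟩ ⟨Quot.mk _ b⟩
  have hex : ∀ ⦃Z : Over S⦄ (g : Z ⟶ W), Sv g → ∃ r : Z ⟶ R, r ≫ s = g ≫ a ∧ r ≫ t = g ≫ b := by
    intro Z g hg
    have h1 : Quot.mk (Rel s t Z) (g ≫ a) = Quot.mk (Rel s t Z) (g ≫ b) := congrArg ULift.down hg
    rw [Quot.eq, (rel_equivalence (s := s) (t := t) Z).eqvGen_iff] at h1
    exact h1
  choose r hr₁ hr₂ using hex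
  let x : Presieve.FamilyOfElements (yoneda.obj R) Sv.arrows := fun Z g hg => r g hg
  have hx : x.Compatible := fun Z₁ Z₂ Z g₁ g₂ f₁ f₂ h₁ h₂ h => by
    change g₁ ≫ r f₁ h₁ = g₂ ≫ r f₂ h₂
    refine huniq _ _ ?_ ?_
    · rw [Category.assoc, Category.assoc, hr₁, hr₁, reassoc_of% h]
    · rw [Category.assoc, Category.assoc, hr₂, hr₂, reassoc_of% h]
  obtain ⟨ρ, hρ, -⟩ := hsheaf R Sv hS x hx
  refine ⟨ρ, ?_, ?_⟩
  · refine (hsheaf U Sv hS).isSeparatedFor.ext fun Z g hg => ?_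
    change g ≫ ρ ≫ s = g ≫ a
    rw [← Category.assoc, show g ≫ ρ = r g hg from hρ g hg, hr₁]
  · refine (hsheaf U Sv hS).isSeparatedFor.ext fun Z g hg => ?_
    change g ≫ ρ ≫ t = g ≫ b
    rw [← Category.assoc, show g ≫ ρ = r g hg from hρ g hg, hr₂]

variable (σ : QuotSh.rep K T ⟶ QuotSh.quot K s t)

/-- A point of `U ×_S T` lies over `σ`. -/
def Mem {W : Over S} (a : W ⟶ U ⊗ T) : Prop :=
  QuotSh.repMap K (a ≫ fst U T) ≫ QuotSh.quotπ K s t = QuotSh.repMap K (a ≫ snd U T) ≫ σ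

/-- The covering sieve of `T` of maps along which `σ` lifts to `U`. -/
theorem exists_cover_lifts : ∃ (ι : Type u) (X : ι → Scheme.{u}) (g : ∀ i, X i ⟶ T.left),
    Presieve.ofArrows X g ∈ Scheme.fpqcPrecoverage T.left ∧
    ∀ i, ∃ v : Over.mk (g i ≫ T.hom) ⟶ U,
      QuotSh.repMap K v ≫ QuotSh.quotπ K s t = QuotSh.repMap K (Over.homMk (g i) rfl) ≫ σ := by
  let J := QuotSh.J K S
  have : Epi (QuotSh.quotπ K s t) := inferInstanceAs (Epi (coequalizer.π _ _))
  have h1 : Sheaf.IsLocallySurjective (QuotSh.quotπ K s t) :=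
    (Sheaf.isLocallySurjective_iff_epi _).2 inferInstance
  have h2 : Presheaf.IsLocallySurjective J (QuotSh.quotπ K s t).hom := h1
  have hS : Presheaf.imageSieve (QuotSh.quotπ K s t).hom (secEquiv K T _ σ) ∈ J T :=
    Presheaf.imageSieve_mem J (QuotSh.quotπ K s t).hom (U := op T) (secEquiv K T _ σ)
  rw [GrothendieckTopology.mem_over_iff] at hS
  obtain ⟨P, hP, hle⟩ := Precoverage.mem_toGrothendieck_iff_of_isStableUnderComposition.1 hS
  obtain ⟨E, rfl⟩ := Precoverage.mem_iff_exists_zeroHypercover.1 hP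
  have : Precoverage.Small.{u} Scheme.fpqcPrecoverage.{u} :=
    inferInstanceAs (Precoverage.Small.{u} (Scheme.propQCPrecoverage @Flat))
  let E' := Precoverage.ZeroHypercover.restrictIndexOfSmall.{u} E
  refine ⟨E'.I₀, E'.X, E'.f, E'.mem₀, fun i => ?_⟩
  have h := hle _ _ (show Presieve.ofArrows E.X E.f (E'.f i) from Presieve.ofArrows.mk _)
  rw [Sieve.overEquiv_iff] at h
  obtain ⟨x, hx⟩ := h
  obtain ⟨v, hv⟩ := repMap_surjective (Over.mk (E'.f i ≫ T.hom)) U ((secEquiv K _ _).symm x)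
  refine ⟨v, (secEquiv K _ _).injective ?_⟩
  change QuotSh.repMap K v = _ at hv
  rw [hv, secEquiv_comp_right, secEquiv_comp, Equiv.apply_symm_apply]
  exact hx

variable {σ}

lemma Mem.comp {W W' : Over S} {a : W ⟶ U ⊗ T} (h : Mem σ a) (d : W' ⟶ W) : Mem σ (d ≫ a) := by
  unfold Mem at *
  simp only [Category.assoc, repMap_comp] at *
  rw [h]

section glue

variable {Z : Over S} (i : Z ⟶ U ⊗ T) [Mono i] {Sv : Sieve T} (hSv : Sv ∈ QuotSh.J K S T)

include hSv in
/-- A monomorphism with the points over `σ` locally on `T` has them globally. -/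
theorem factors_iff_of_local
    (h : ∀ ⦃W : Over S⦄ (a : W ⟶ U ⊗ T), Sv (a ≫ snd U T) →
      ((∃ z : W ⟶ Z, z ≫ i = a) ↔ Mem σ a))
    {W : Over S} (a : W ⟶ U ⊗ T) : (∃ z : W ⟶ Z, z ≫ i = a) ↔ Mem σ a := by
  let J := QuotSh.J K S
  constructor
  · rintro ⟨z, rfl⟩
    refine Mem.comp ?_ z
    apply (secEquiv K Z _).injective
    refine (((isSheaf_iff_isSheaf_of_type _ _).1 (QuotSh.quot K s t).property) _
      (J.pullback_stable (i ≫ snd U T) hSv)).isSeparatedFor.ext fun Y d hd => ?_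
    rw [← secEquiv_comp, ← secEquiv_comp]
    congr 1
    have h3 : Mem σ (d ≫ i) := (h (d ≫ i) (by rw [Category.assoc]; exact hd)).1 ⟨d, rfl⟩
    unfold Mem at h3
    simpa only [Category.assoc, repMap_comp] using h3
  · intro ha
    have hsheaf : ∀ (V : Over S), Presieve.IsSheaf J (yoneda.obj V) := fun V =>
      GrothendieckTopology.Subcanonical.isSheaf_of_isRepresentable _
    have hS' := J.pullback_stable (a ≫ snd U T) hSv
    have hex : ∀ ⦃Y : Over S⦄ (d : Y ⟶ W), Sv.pullback (a ≫ snd U T) d →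
        ∃ z : Y ⟶ Z, z ≫ i = d ≫ a := fun Y d hd =>
      (h (d ≫ a) (by rw [Category.assoc]; exact hd)).2 (ha.comp d)
    choose z hz using hex
    let x : Presieve.FamilyOfElements (yoneda.obj Z) (Sv.pullback (a ≫ snd U T)).arrows :=
      fun Y d hd => z d hd
    have hx : x.Compatible := fun Y₁ Y₂ Y g₁ g₂ f₁ f₂ h₁ h₂ e => by
      change g₁ ≫ z f₁ h₁ = g₂ ≫ z f₂ h₂
      rw [← cancel_mono i, Category.assoc, Category.assoc, hz, hz, reassoc_of% e]
    obtain ⟨ρ, hρ, -⟩ := hsheaf Z _ hS' x hx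
    refine ⟨ρ, (hsheaf (U ⊗ T) _ hS').isSeparatedFor.ext fun Y d hd => ?_⟩
    change d ≫ ρ ≫ i = d ≫ a
    rw [← Category.assoc, show d ≫ ρ = z d hd from hρ d hd, hz]

end glue

/-- It suffices to test on the members of a covering family of `T`. -/
theorem factors_iff_of_members {Z : Over S} (i : Z ⟶ U ⊗ T) [Mono i] {ι : Type u}
    {X : ι → Scheme.{u}} {g : ∀ k, X k ⟶ T.left}
    (hg : Presieve.ofArrows X g ∈ Scheme.fpqcPrecoverage T.left)
    (h : ∀ (k : ι) ⦃W : Over S⦄ (a : W ⟶ U ⊗ T) (b : W ⟶ Over.mk (g k ≫ T.hom)),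
      b ≫ Over.homMk (g k) rfl = a ≫ snd U T → ((∃ z : W ⟶ Z, z ≫ i = a) ↔ Mem σ a))
    {W : Over S} (a : W ⟶ U ⊗ T) : (∃ z : W ⟶ Z, z ≫ i = a) ↔ Mem σ a := by
  refine factors_iff_of_local i (Sv := (Sieve.overEquiv T).symm (Sieve.generate
    (Presieve.ofArrows X g))) ?_ (fun W a ha => ?_) a
  · rw [GrothendieckTopology.mem_over_iff, OrderIso.apply_symm_apply]
    exact Precoverage.generate_mem_toGrothendieck hg
  · rw [Sieve.overEquiv_symm_iff] at ha
    obtain ⟨Y, d, e, ⟨k⟩, hfac⟩ := ha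
    refine h k a (Over.homMk d ?_) (Over.OverMorphism.ext hfac)
    change d ≫ g k ≫ T.hom = W.hom
    rw [reassoc_of% hfac]
    exact Over.w (a ≫ snd U T)

end Groth.Agent.QuotSect
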