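import Groth.Agent.QuotSect.Main

/-!
# Properties of the subscheme of `U ×_S T` attached to a section of `U/R`
-/

set_option backward.isDefEq.respectTransparency false
set_option backward.isDefEq.respectTransparency.types false
set_option autoImplicit false

universe u

open CategoryTheory CategoryTheory.Limits AlgebraicGeometry Opposite MonoidalCategory
  CartesianMonoidalCategory SemiCartesianMonoidalCategory

namespace Groth.Agent.QuotSect

local notation "K" => Scheme.fpqcPrecoverage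

variable {S : Scheme.{u}} {R U T : Over S} {s t : R ⟶ U} [IsEquivalenceRelation s t]
  {σ : QuotSh.rep K T ⟶ QuotSh.quot K s t} {Z : Over S} {i : Z ⟶ U ⊗ T}
  (h : ∀ ⦃W : Over S⦄ (a : W ⟶ U ⊗ T), (∃ z : W ⟶ Z, z ≫ i = a) ↔ Mem σ a)

include h

omit [IsEquivalenceRelation s t] in
theorem stable (T' : Over S) (r : T' ⟶ R ⊗ T) :
    (∃ z : T' ⟶ Z, z ≫ i = r ≫ (s ▷ T)) ↔ (∃ z : T' ⟶ Z, z ≫ i = r ≫ (t ▷ T)) := by
  rw [h, h]
  unfold Mem
  simp only [Category.assoc, whiskerRight_fst, whiskerRight_snd]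
  simp only [repMap_comp, Category.assoc]
  rw [QuotSh.quot_condition]

omit [IsEquivalenceRelation s t] in
theorem defining_eq : QuotSh.repMap K (i ≫ fst U T) ≫ QuotSh.quotπ K s t =
    QuotSh.repMap K (i ≫ snd U T) ≫ σ :=
  (h i).1 ⟨𝟙 _, Category.id_comp _⟩

theorem related (T' : Over S) (z₁ z₂ : T' ⟶ Z)
    (e : z₁ ≫ i ≫ snd U T = z₂ ≫ i ≫ snd U T) :
    ∃ r : T' ⟶ R, r ≫ s = z₁ ≫ i ≫ fst U T ∧ r ≫ t = z₂ ≫ i ≫ fst U T := by
  refine rel_of_quotπ_eq _ _ ?_
  have h1 : Mem σ (z₁ ≫ i) := (h _).1 ⟨z₁, rfl⟩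
  have h2 : Mem σ (z₂ ≫ i) := (h _).1 ⟨z₂, rfl⟩
  simp only [Mem, Category.assoc] at h1 h2
  rw [h1, h2, e]

/-- Over a lift of `σ`, the subscheme is a base change of `s`. -/
theorem exists_isPullback [Mono i] {W : Over S} (c : W ⟶ T) (v : W ⟶ U)
    (hv : QuotSh.repMap K v ≫ QuotSh.quotπ K s t = QuotSh.repMap K c ≫ σ) :
    ∃ p : pullback s v ⟶ Z, IsPullback p (pullback.snd s v) (i ≫ snd U T) c := by
  obtain ⟨p, hp⟩ := (h (lift (pullback.fst s v ≫ t) (pullback.snd s v ≫ c))).2 (by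
    unfold Mem
    rw [lift_fst, lift_snd, repMap_comp (pullback.snd s v) c, Category.assoc, ← hv, repMap_comp,
      Category.assoc, ← QuotSh.quot_condition, ← Category.assoc, ← repMap_comp, pullback.condition,
      repMap_comp, Category.assoc])
  have hp1 : p ≫ i ≫ fst U T = pullback.fst s v ≫ t := by rw [reassoc_of% hp, lift_fst]
  have hp2 : p ≫ i ≫ snd U T = pullback.snd s v ≫ c := by rw [reassoc_of% hp, lift_snd]
  have key : ∀ a : PullbackCone (i ≫ snd U T) c,
      ∃ r, r ≫ s = a.snd ≫ v ∧ r ≫ t = a.fst ≫ i ≫ fst U T := fun a => by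
    refine rel_of_quotπ_eq _ _ ?_
    have e' := congrArg (fun x => QuotSh.repMap K a.fst ≫ x) (defining_eq h)
    simp only [← Category.assoc, ← repMap_comp] at e'
    rw [repMap_comp, Category.assoc, hv, ← Category.assoc (QuotSh.repMap K a.snd), ← repMap_comp,
      ← a.condition]
    simp only [← Category.assoc] at e' ⊢
    exact e'.symm
  choose r hr1 hr2 using key
  refine ⟨p, IsPullback.of_isLimit' ⟨hp2⟩ (PullbackCone.IsLimit.mk _
    (fun a => pullback.lift (r a) a.snd (hr1 a))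
    (fun a => ?_) (fun a => pullback.lift_snd _ _ _) (fun a m h1 h2 => ?_))⟩
  · rw [← cancel_mono i]
    apply CartesianMonoidalCategory.hom_ext
    · simp only [Category.assoc, hp1, pullback.lift_fst_assoc, hr2]
    · simp only [Category.assoc, hp2, pullback.lift_snd_assoc]
      exact a.condition.symm
  · apply pullback.hom_ext
    · obtain ⟨⟨e⟩⟩ := ‹IsEquivalenceRelation s t›
      rw [pullback.lift_fst]
      refine e.right_cancellation _ _ ?_ ?_
      · rw [Category.assoc, pullback.condition, reassoc_of% h2, hr1]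
      · rw [Category.assoc, ← hp1, reassoc_of% h1, hr2]
    · rw [pullback.lift_snd, h2]

theorem flat_surjective_quasiCompact [Mono i] [Flat s.left] [Surjective s.left]
    [QuasiCompact s.left] :
    Flat (i ≫ snd U T).left ∧ Surjective (i ≫ snd U T).left ∧ QuasiCompact (i ≫ snd U T).left := by
  obtain ⟨ι, X, g, hg, hv⟩ := exists_cover_lifts σ
  choose v hv using hv
  have hP : ∀ k, Flat (pullback.snd (i ≫ snd U T).left (g k)) ∧
      Surjective (pullback.snd (i ≫ snd U T).left (g k)) ∧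
      QuasiCompact (pullback.snd (i ≫ snd U T).left (g k)) := fun k => by
    obtain ⟨p, hp⟩ := exists_isPullback h (member (g k)) (v k) (hv k)
    have hp' : IsPullback p.left (pullback.snd s (v k)).left (i ≫ snd U T).left (g k) :=
      hp.map (Over.forget S)
    have hb := (IsPullback.of_hasPullback s (v k)).map (Over.forget S)
    have h1 : Flat (pullback.snd s (v k)).left := MorphismProperty.of_isPullback hb ‹Flat s.left›
    have h2 : Surjective (pullback.snd s (v k)).left :=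
      MorphismProperty.of_isPullback hb ‹Surjective s.left›
    have h3 : QuasiCompact (pullback.snd s (v k)).left :=
      MorphismProperty.of_isPullback hb ‹QuasiCompact s.left›
    rw [← hp'.isoPullback_inv_snd]
    exact ⟨inferInstance, inferInstance, inferInstance⟩
  have := FpqcDescent.descendsAlong_flat.{u}
  have := FpqcDescent.descendsAlong_quasiCompact.{u}
  refine ⟨FpqcDescent.of_fpqcPrecoverage @Flat _ hg (by rintro _ _ ⟨k⟩; exact (hP k).1),
    ⟨fun x => ?_⟩, FpqcDescent.of_fpqcPrecoverage @QuasiCompact _ hg (by rintro _ _ ⟨k⟩; exact (hP k).2.2)⟩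
  obtain ⟨k, y, rfl⟩ := ((Scheme.ofArrows_mem_precoverage_iff _).mp hg.2).1 x
  obtain ⟨z, rfl⟩ := (hP k).2.1.surj y
  exact ⟨pullback.fst (i ≫ snd U T).left (g k) z, by
    rw [← Scheme.Hom.comp_apply, ← Scheme.Hom.comp_apply, pullback.condition]⟩

omit h

omit [IsEquivalenceRelation s t] in
/-- A stable subscheme, faithfully flat and quasi-compact over `T` and lying over `σ`, contains every
point over `σ`. -/
theorem factors_of_mem [IsEquivalenceRelation s t] {Z' : Over S} (i' : Z' ⟶ U ⊗ T) [Mono i'.left]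
    (hst : ∀ (T' : Over S) (r : T' ⟶ R ⊗ T),
      (∃ z : T' ⟶ Z', z ≫ i' = r ≫ (s ▷ T)) ↔ (∃ z : T' ⟶ Z', z ≫ i' = r ≫ (t ▷ T)))
    [Flat (i' ≫ snd U T).left] [Surjective (i' ≫ snd U T).left] [QuasiCompact (i' ≫ snd U T).left]
    (heq : QuotSh.repMap K (i' ≫ fst U T) ≫ QuotSh.quotπ K s t =
      QuotSh.repMap K (i' ≫ snd U T) ≫ σ)
    {W : Over S} {a : W ⟶ U ⊗ T} (ha : Mem σ a) : ∃ z : W ⟶ Z', z ≫ i' = a := by
  let c := pullback.fst (a ≫ snd U T) (i' ≫ snd U T)
  let z₀ := pullback.snd (a ≫ snd U T) (i' ≫ snd U T)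
  have hb := ((IsPullback.of_hasPullback (a ≫ snd U T) (i' ≫ snd U T)).map (Over.forget S)).flip
  have hf : Flat c.left := MorphismProperty.of_isPullback hb ‹Flat (i' ≫ snd U T).left›
  have hs : Surjective c.left :=
    MorphismProperty.of_isPullback hb ‹Surjective (i' ≫ snd U T).left›
  have hq : QuasiCompact c.left :=
    MorphismProperty.of_isPullback hb ‹QuasiCompact (i' ≫ snd U T).left›
  have hc : c ≫ a ≫ snd U T = z₀ ≫ i' ≫ snd U T := pullback.condition
  obtain ⟨r, hr1, hr2⟩ := rel_of_quotπ_eq (z₀ ≫ i' ≫ fst U T) (c ≫ a ≫ fst U T) (by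
    have h1 : Mem σ (z₀ ≫ i') := Mem.comp heq z₀
    have h2 : Mem σ (c ≫ a) := ha.comp c
    simp only [Mem, Category.assoc] at h1 h2
    rw [h1, h2, hc])
  obtain ⟨z, hz⟩ := (hst _ (lift r (c ≫ a ≫ snd U T))).1 ⟨z₀, by
    apply CartesianMonoidalCategory.hom_ext
    · simp only [Category.assoc, whiskerRight_fst, lift_fst_assoc, hr1]
    · simp only [Category.assoc, whiskerRight_snd, lift_snd, hc]⟩
  have hz' : z ≫ i' = c ≫ a := by
    rw [hz]
    apply CartesianMonoidalCategory.hom_ext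
    · simp only [Category.assoc, whiskerRight_fst, lift_fst_assoc, hr2]
    · simp only [Category.assoc, whiskerRight_snd, lift_snd]
  rw [factors_left]
  have : StrongEpi c.left := inferInstance
  have sq : CommSq z.left c.left i'.left a.left := ⟨congrArg CommaMorphism.left hz'⟩
  exact ⟨sq.lift, sq.fac_right⟩

/-- Uniqueness of the subscheme. -/
theorem exists_iso {Z Z' : Over S} (i : Z ⟶ U ⊗ T) (i' : Z' ⟶ U ⊗ T) [Mono i.left] [Mono i'.left]
    (hst : ∀ (T' : Over S) (r : T' ⟶ R ⊗ T),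
      (∃ z : T' ⟶ Z, z ≫ i = r ≫ (s ▷ T)) ↔ (∃ z : T' ⟶ Z, z ≫ i = r ≫ (t ▷ T)))
    (hst' : ∀ (T' : Over S) (r : T' ⟶ R ⊗ T),
      (∃ z : T' ⟶ Z', z ≫ i' = r ≫ (s ▷ T)) ↔ (∃ z : T' ⟶ Z', z ≫ i' = r ≫ (t ▷ T)))
    [Flat (i ≫ snd U T).left] [Surjective (i ≫ snd U T).left] [QuasiCompact (i ≫ snd U T).left]
    [Flat (i' ≫ snd U T).left] [Surjective (i' ≫ snd U T).left] [QuasiCompact (i' ≫ snd U T).left]
    (heq : QuotSh.repMap K (i ≫ fst U T) ≫ QuotSh.quotπ K s t =
      QuotSh.repMap K (i ≫ snd U T) ≫ σ)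
    (heq' : QuotSh.repMap K (i' ≫ fst U T) ≫ QuotSh.quotπ K s t =
      QuotSh.repMap K (i' ≫ snd U T) ≫ σ) : ∃ e : Z ≅ Z', e.hom ≫ i' = i := by
  obtain ⟨z, hz⟩ := factors_of_mem i' hst' heq' (a := i) heq
  obtain ⟨z', hz'⟩ := factors_of_mem i hst heq (a := i') heq'
  have : Mono i := (Over.forget S).mono_of_mono_map (inferInstanceAs (Mono i.left))
  have : Mono i' := (Over.forget S).mono_of_mono_map (inferInstanceAs (Mono i'.left))
  exact ⟨⟨z, z', by rw [← cancel_mono i, Category.assoc, hz', hz, Category.id_comp],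
    by rw [← cancel_mono i', Category.assoc, hz, hz', Category.id_comp]⟩, hz⟩

end Groth.Agent.QuotSect
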